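import Cfsg.Prelude.Def_AxialAlgebras

/-!
Elementary properties of a Majorana axis: decomposition into the four eigenspaces, the fusion
rules in equation form, and the Miyamoto map.
-/

set_option autoImplicit false

namespace CfsgLib.Sakuma

open Cfsg.Axial

variable {V : Type*} [AddCommGroup V] [Module ℝ V]

/-- The product vector `x y` minus the mean of the factors over sixteen. -/
noncomputable def sig (mul : V →ₗ[ℝ] V →ₗ[ℝ] V) (x y : V) : V :=
  mul x y - (1 / 32 : ℝ) • (x + y)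

theorem mul_eq_sig (mul : V →ₗ[ℝ] V →ₗ[ℝ] V) (x y : V) :
    mul x y = sig mul x y + (1 / 32 : ℝ) • (x + y) := by
  simp [sig]

variable {mul : V →ₗ[ℝ] V →ₗ[ℝ] V} {B : LinearMap.BilinForm ℝ V} {μ : V ≃ₗ[ℝ] V} {a : V}

theorem mem_eigen {c : ℝ} {v : V} : v ∈ eigen mul a c ↔ mul a v = c • v :=
  Module.End.mem_eigenspace_iff

theorem le_eigenSum {c : ℝ} {S : Set ℝ} (hc : c ∈ S) : eigen mul a c ≤ eigenSum mul a S :=
  le_biSup (eigen mul a) hc

theorem fix_of_eigen (h : IsMajoranaPair mul B μ a) {c : ℝ} (hc : c ∈ ({1, 0, 1 / 4} : Set ℝ)) {v : V}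
    (hv : mul a v = c • v) : μ v = v :=
  h.2.2.2.1 v (le_eigenSum hc (mem_eigen.2 hv))

theorem neg_of_eigen (h : IsMajoranaPair mul B μ a) {v : V}
    (hv : mul a v = (1 / 32 : ℝ) • v) : μ v = -v :=
  h.2.2.2.2 v (mem_eigen.2 hv)

theorem idem (h : IsMajoranaPair mul B μ a) : mul a a = a := h.2.2.1.1.2.1

theorem fix_axis (h : IsMajoranaPair mul B μ a) : μ a = a :=
  fix_of_eigen h (c := 1) (by simp) (by rw [idem h, one_smul])

theorem decomp (h : IsMajoranaPair mul B μ a) (x : V) : ∃ (c : ℝ) (u v w : V),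
    x = c • a + u + v + w ∧ mul a u = 0 ∧ mul a v = (1 / 4 : ℝ) • v ∧ mul a w = (1 / 32 : ℝ) • w := by
  have hx : x ∈ eigenSum mul a majoranaSpectrum := by rw [h.2.2.1.1.2.2.1]; exact Submodule.mem_top
  simp only [eigenSum, majoranaSpectrum, iSup_insert, iSup_singleton] at hx
  obtain ⟨p, hp, y, hy, rfl⟩ := Submodule.mem_sup.1 hx
  obtain ⟨u, hu, y', hy', rfl⟩ := Submodule.mem_sup.1 hy
  obtain ⟨v, hv, w, hw, rfl⟩ := Submodule.mem_sup.1 hy'
  rw [h.2.2.1.2, Submodule.mem_span_singleton] at hp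
  obtain ⟨c, rfl⟩ := hp
  refine ⟨c, u, v, w, by abel, ?_, mem_eigen.1 hv, mem_eigen.1 hw⟩
  rw [mem_eigen.1 hu, zero_smul]

theorem invol (h : IsMajoranaPair mul B μ a) (x : V) : μ (μ x) = x := by
  obtain ⟨c, u, v, w, rfl, hu, hv, hw⟩ := decomp h x
  have hu' : μ u = u := fix_of_eigen h (c := 0) (by simp) (by rw [hu, zero_smul])
  have hv' : μ v = v := fix_of_eigen h (c := 1 / 4) (by simp) hv
  simp [map_add, map_smul, fix_axis h, hu', hv', neg_of_eigen h hw]

theorem fusion_zero (h : IsMajoranaPair mul B μ a) {u u' : V} (hu : mul a u = 0) (hu' : mul a u' = 0) :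
    mul a (mul u u') = 0 := by
  have := h.2.2.1.1.2.2.2 0 (by simp [majoranaSpectrum]) 0 (by simp [majoranaSpectrum]) u
    (mem_eigen.2 (by rw [hu, zero_smul])) u' (mem_eigen.2 (by rw [hu', zero_smul]))
  have e : monsterLaw (1 / 4 : ℝ) (1 / 32) 0 0 = {0} := by norm_num [monsterLaw]
  simp only [e, eigenSum, iSup_singleton] at this
  rw [mem_eigen.1 this, zero_smul]

theorem fusion_zero_quarter (h : IsMajoranaPair mul B μ a) {u v : V} (hu : mul a u = 0)
    (hv : mul a v = (1 / 4 : ℝ) • v) : mul a (mul u v) = (1 / 4 : ℝ) • mul u v := by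
  have := h.2.2.1.1.2.2.2 0 (by simp [majoranaSpectrum]) (1 / 4) (by simp [majoranaSpectrum]) u
    (mem_eigen.2 (by rw [hu, zero_smul])) v (mem_eigen.2 hv)
  have e : monsterLaw (1 / 4 : ℝ) (1 / 32) 0 (1 / 4) = {1 / 4} := by norm_num [monsterLaw]
  simp only [e, eigenSum, iSup_singleton] at this
  exact mem_eigen.1 this

theorem fusion_quarter (hV : IsMajoranaAmbient mul B) (h : IsMajoranaPair mul B μ a) (hn : B a a = 1)
    {v : V} (hv : mul a v = (1 / 4 : ℝ) • v) :
    mul a (mul v v) = (1 / 4 * B v v : ℝ) • a := by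
  have := h.2.2.1.1.2.2.2 (1 / 4) (by simp [majoranaSpectrum]) (1 / 4) (by simp [majoranaSpectrum]) v
    (mem_eigen.2 hv) v (mem_eigen.2 hv)
  have e : monsterLaw (1 / 4 : ℝ) (1 / 32) (1 / 4) (1 / 4) = {1, 0} := by norm_num [monsterLaw]
  simp only [e, eigenSum, iSup_insert, iSup_singleton] at this
  obtain ⟨p, hp, y, hy, hpy⟩ := Submodule.mem_sup.1 this
  rw [h.2.2.1.2, Submodule.mem_span_singleton] at hp
  obtain ⟨c, rfl⟩ := hp
  have hc : mul a (mul v v) = c • a := by
    rw [← hpy, map_add, map_smul, idem h, mem_eigen.1 hy, zero_smul, add_zero]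
  have h1 : B (mul a (mul v v)) a = c := by rw [hc, map_smul]; simp [hn]
  have h2 : B (mul a (mul v v)) a = 1 / 4 * B v v := by
    rw [hV.2.1, hV.2.2.2.1, idem h, hV.2.2.2.1, hv, map_smul]
    simp
  rw [hc, ← h1, h2]

/-- Two Majorana maps intertwine along an automorphism carrying one axis to the other. -/
theorem intertwine {μ' : V ≃ₗ[ℝ] V} {a' : V} (h : IsMajoranaPair mul B μ a)
    (h' : IsMajoranaPair mul B μ' a') (g : V ≃ₗ[ℝ] V) (hg : ∀ x y, g (mul x y) = mul (g x) (g y))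
    (ha : g a = a') (x : V) : μ' (g x) = g (μ x) := by
  obtain ⟨c, u, v, w, rfl, hu, hv, hw⟩ := decomp h x
  have hu' : μ u = u := fix_of_eigen h (c := 0) (by simp) (by rw [hu, zero_smul])
  have hv' : μ v = v := fix_of_eigen h (c := 1 / 4) (by simp) hv
  have gu : μ' (g u) = g u := fix_of_eigen h' (c := 0) (by simp) (by
    rw [← ha, ← hg, hu, map_zero, zero_smul])
  have gv : μ' (g v) = g v := fix_of_eigen h' (c := 1 / 4) (by simp) (by
    rw [← ha, ← hg, hv, map_smul])
  have gw : μ' (g w) = -g w := neg_of_eigen h' (by rw [← ha, ← hg, hw, map_smul])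
  simp [map_add, map_smul, fix_axis h, hu', hv', neg_of_eigen h hw, ha, fix_axis h', gu, gv, gw]

/-- The three components of a vector with respect to an axis. -/
theorem components (hV : IsMajoranaAmbient mul B) (h : IsMajoranaPair mul B μ a) (hn : B a a = 1)
    (x : V) :
    ∃ u v : V, mul a u = 0 ∧ mul a v = (1 / 4 : ℝ) • v ∧
      v = (4 : ℝ) • (mul a x - B a x • a - (1 / 64 : ℝ) • (x - μ x)) ∧
      u + v = (1 / 2 : ℝ) • (x + μ x) - B a x • a ∧ B v v = B v x ∧
      mul a (x - μ x) = (1 / 32 : ℝ) • (x - μ x) := by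
  obtain ⟨c, u, v, w, hx, hu, hv, hw⟩ := decomp h x
  have hu' : μ u = u := fix_of_eigen h (c := 0) (by simp) (by rw [hu, zero_smul])
  have hv' : μ v = v := fix_of_eigen h (c := 1 / 4) (by simp) hv
  have hμ : μ x = c • a + u + v - w := by
    rw [hx]; simp [map_add, map_smul, fix_axis h, hu', hv', neg_of_eigen h hw, sub_eq_add_neg]
  have sym := hV.2.1
  have assoc := hV.2.2.2.1
  have comm := hV.1
  have orth : ∀ {p q : V} {α β : ℝ}, mul a p = α • p → mul a q = β • q → α ≠ β → B p q = 0 := by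
    intro p q α β hp hq hne
    have h1 : B (mul a p) q = B p (mul a q) := by rw [comm a p, assoc]
    rw [hp, hq] at h1
    simp at h1
    by_contra h0
    exact hne (h1.resolve_right h0)
  have ea : mul a a = (1 : ℝ) • a := by rw [idem h, one_smul]
  have eu : mul a u = (0 : ℝ) • u := by rw [hu, zero_smul]
  have hc : B a x = c := by
    rw [hx]
    simp [hn, orth ea eu (by norm_num), orth ea hv (by norm_num), orth ea hw (by norm_num)]
  refine ⟨u, v, hu, hv, ?_, ?_, ?_, ?_⟩
  · rw [hc, hμ, hx]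
    simp only [map_add, map_smul, idem h, hu, hv, hw]
    module
  · rw [hc, hμ, hx]
    module
  · conv_rhs => rw [hx]
    simp [orth hv ea (by norm_num), orth hv eu (by norm_num), orth hv hw (by norm_num)]
  · rw [hμ, hx, show c • a + u + v + w - (c • a + u + v - w) = w + w by abel, map_add, hw, smul_add]

end CfsgLib.Sakuma
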