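import Cfsg.Agent.Lib.Sakuma.Solve

/-!
Sakuma: two Majorana involutions have a product of order at most six.
-/

set_option autoImplicit false

namespace CfsgLib.Sakuma

open Cfsg.Axial

variable {V : Type*} [AddCommGroup V] [Module ℝ V]
  {mul : V →ₗ[ℝ] V →ₗ[ℝ] V} {B : LinearMap.BilinForm ℝ V}

theorem eq_of_inner_one (hV : IsMajoranaAmbient mul B) {x y : V} (hx : B x x = 1) (hy : B y y = 1)
    (hxy : B x y = 1) : x = y := by
  by_contra h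
  have hpos := hV.2.2.1 (x - y) (sub_ne_zero.2 h)
  simp [map_sub, hV.2.1 y x, hx, hy, hxy] at hpos

theorem order_le_six (hV : IsMajoranaAmbient mul B) {μ₀ μ₁ : V ≃ₗ[ℝ] V} {a₀ a₁ : V}
    (h₀ : IsMajoranaPair mul B μ₀ a₀) (h₁ : IsMajoranaPair mul B μ₁ a₁)
    (n₀ : B a₀ a₀ = 1) (n₁ : B a₁ a₁ = 1) :
    ∃ n : ℕ, 1 ≤ n ∧ n ≤ 6 ∧ (μ₀ * μ₁) ^ n = 1 := by
  let d : Dih mul B := ⟨μ₀, μ₁, a₀, a₁, hV, h₀, h₁, n₀, n₁⟩
  have r2 := d.relation_two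
  have i0 := invol h₀
  have i1 := invol h₁
  have g1 : ∀ x y, μ₁ (mul x y) = mul (μ₁ x) (μ₁ y) := h₁.1
  have g0 : ∀ x y, μ₀ (mul x y) = mul (μ₀ x) (μ₀ y) := h₀.1
  have eqa : ∀ {x : V}, B x x = 1 → B a₀ x = 1 → x = a₀ := fun hx h =>
    (eq_of_inner_one hV n₀ hx h).symm
  have b1 : ∀ x, B (μ₁ x) (μ₁ x) = B x x := fun x => h₁.2.1 x x
  have b0 : ∀ x, B (μ₀ x) (μ₀ x) = B x x := fun x => h₀.2.1 x x
  have pre : d.l = 1 ∨ d.m = 1 ∨ lam3 d.l d.m = 1 ∨ lam4 d.l d.m = 1 ∨ lam5 d.l d.m = 1 ∨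
      lam6 d.l d.m = 1 :=
    periodic_values d.l d.m (by linear_combination d.relation_one) (by linear_combination r2)
  rcases pre with h | h | h | h | h | h
  · refine ⟨1, le_rfl, by norm_num, LinearEquiv.ext fun x => ?_⟩
    have ha : a₁ = a₀ := eqa n₁ h
    have e := intertwine h₁ h₀ 1 (fun x y => rfl) ha (μ₁ x)
    simp only [LinearEquiv.coe_one, id_eq] at e
    simp [pow_one, LinearEquiv.mul_apply, e, i1]
  · refine ⟨2, by norm_num, by norm_num, LinearEquiv.ext fun x => ?_⟩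
    have ha : μ₁ a₀ = a₀ := eqa (by rw [b1, n₀]) h
    have e := intertwine h₀ h₀ μ₁ g1 ha
    simp [pow_succ, LinearEquiv.mul_apply, e, i0, i1]
  · refine ⟨3, by norm_num, by norm_num, LinearEquiv.ext fun x => ?_⟩
    have hb : B a₀ d.a3 = 1 := d.B03.trans h
    have ha : μ₁ (μ₀ a₁) = a₀ := eqa (by rw [b1, b0, n₁]) hb
    have e := intertwine h₁ h₀ (μ₁ * μ₀) (fun x y => by simp [g0, g1]) (by simpa using ha)
    simp only [LinearEquiv.mul_apply] at e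
    simp [pow_succ, LinearEquiv.mul_apply, e, i0, i1]
  · refine ⟨4, by norm_num, by norm_num, LinearEquiv.ext fun x => ?_⟩
    have hb : B a₀ d.a4 = 1 := d.B04'.trans h
    have ha : μ₁ (μ₀ (μ₁ a₀)) = a₀ := eqa (by rw [b1, b0, b1, n₀]) hb
    have e := intertwine h₀ h₀ (μ₁ * μ₀ * μ₁) (fun x y => by simp [g0, g1]) (by simpa using ha)
    simp only [LinearEquiv.mul_apply] at e
    simp [pow_succ, LinearEquiv.mul_apply, e, i0, i1]
  · refine ⟨5, by norm_num, le_of_lt (by norm_num), LinearEquiv.ext fun x => ?_⟩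
    have hb : B a₀ (μ₁ (μ₀ (μ₁ (μ₀ a₁)))) = 1 := by
      have h5 : B d.a3 d.am2 = 1 := d.B3n.trans h
      have h6 : B d.am2 d.a3 = 1 := by rw [hV.2.1]; exact h5
      rw [show (1 : ℝ) = B d.am2 d.a3 from h6.symm]
      show B a₀ (μ₁ (μ₀ (μ₁ (μ₀ a₁)))) = B (μ₀ (μ₁ a₀)) (μ₁ (μ₀ a₁))
      rw [← h₁.2.1 a₀, i1, ← h₀.2.1 (μ₁ a₀), i0]
    have ha := eqa (by rw [b1, b0, b1, b0, n₁]) hb
    have e := intertwine h₁ h₀ (μ₁ * μ₀ * μ₁ * μ₀) (fun x y => by simp [g0, g1]) (by simpa using ha)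
    simp only [LinearEquiv.mul_apply] at e
    simp [pow_succ, LinearEquiv.mul_apply, e, i0, i1]
  · refine ⟨6, by norm_num, le_rfl, LinearEquiv.ext fun x => ?_⟩
    have hb : B a₀ (μ₁ (μ₀ (μ₁ (μ₀ (μ₁ a₀))))) = 1 := by
      have h5 : B d.a4 d.am2 = 1 := d.B4n.trans h
      have h6 : B d.am2 d.a4 = 1 := by rw [hV.2.1]; exact h5
      rw [show (1 : ℝ) = B d.am2 d.a4 from h6.symm]
      show B a₀ (μ₁ (μ₀ (μ₁ (μ₀ (μ₁ a₀))))) = B (μ₀ (μ₁ a₀)) (μ₁ (μ₀ (μ₁ a₀)))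
      rw [← h₁.2.1 a₀, i1, ← h₀.2.1 (μ₁ a₀), i0]
    have ha := eqa (by rw [b1, b0, b1, b0, b1, n₀]) hb
    have e := intertwine h₀ h₀ (μ₁ * μ₀ * μ₁ * μ₀ * μ₁) (fun x y => by simp [g0, g1])
      (by simpa using ha)
    simp only [LinearEquiv.mul_apply] at e
    simp [pow_succ, LinearEquiv.mul_apply, e, i0, i1]

end CfsgLib.Sakuma
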