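import Cfsg.Agent.Lib.Sakuma.Axis

/-!
The products in an algebra generated by two Majorana axes.
-/

set_option autoImplicit false

namespace CfsgLib.Sakuma

open Cfsg.Axial

variable {V : Type*} [AddCommGroup V] [Module ℝ V]

/-- Two Majorana axes with their involutions. -/
structure Dih (mul : V →ₗ[ℝ] V →ₗ[ℝ] V) (B : LinearMap.BilinForm ℝ V) where
  /-- the first involution -/
  μ0 : V ≃ₗ[ℝ] V
  /-- the second involution -/
  μ1 : V ≃ₗ[ℝ] V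
  /-- the first axis -/
  a0 : V
  /-- the second axis -/
  a1 : V
  hV : IsMajoranaAmbient mul B
  p0 : IsMajoranaPair mul B μ0 a0
  p1 : IsMajoranaPair mul B μ1 a1
  n0 : B a0 a0 = 1
  n1 : B a1 a1 = 1

variable {mul : V →ₗ[ℝ] V →ₗ[ℝ] V} {B : LinearMap.BilinForm ℝ V} (d : Dih mul B)

namespace Dih

/-- The same pair in the other order. -/
def swap : Dih mul B := ⟨d.μ1, d.μ0, d.a1, d.a0, d.hV, d.p1, d.p0, d.n1, d.n0⟩
/-- The axis two steps up. -/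
def a2 : V := d.μ1 d.a0
/-- The axis one step down. -/
def am1 : V := d.μ0 d.a1
/-- The axis two steps down. -/
def am2 : V := d.μ0 d.a2
/-- The axis three steps up. -/
def a3 : V := d.μ1 d.am1
/-- The axis four steps up. -/
def a4 : V := d.μ1 d.am2
/-- The first invariant vector. -/
noncomputable def s : V := sig mul d.a0 d.a1
/-- The second invariant vector at even positions. -/
noncomputable def t0 : V := sig mul d.a0 d.a2
/-- The second invariant vector at odd positions. -/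
noncomputable def t1 : V := sig mul d.a1 d.am1
/-- The first inner product. -/
noncomputable def l : ℝ := B d.a0 d.a1
/-- The second inner product at even positions. -/
noncomputable def m : ℝ := B d.a0 d.a2

theorem swap_a2 : d.swap.a2 = d.am1 := rfl
theorem swap_am1 : d.swap.am1 = d.a2 := rfl
theorem swap_am2 : d.swap.am2 = d.a3 := rfl
theorem swap_a3 : d.swap.a3 = d.am2 := rfl
theorem swap_a0 : d.swap.a0 = d.a1 := rfl
theorem swap_a1 : d.swap.a1 = d.a0 := rfl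
theorem swap_t0 : d.swap.t0 = d.t1 := rfl
theorem swap_t1 : d.swap.t1 = d.t0 := rfl
theorem swap_s : d.swap.s = d.s := by
  show sig mul d.a1 d.a0 = sig mul d.a0 d.a1
  rw [sig, sig, d.hV.1 d.a1 d.a0, add_comm d.a1]
theorem swap_l : d.swap.l = d.l := d.hV.2.1 _ _

include d in
theorem comm (x y : V) : mul x y = mul y x := d.hV.1 x y
include d in
theorem symm (x y : V) : B x y = B y x := d.hV.2.1 x y
include d in
theorem assoc (x y z : V) : B x (mul y z) = B (mul x y) z := d.hV.2.2.2.1 x y z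
theorem hom0 (x y : V) : d.μ0 (mul x y) = mul (d.μ0 x) (d.μ0 y) := d.p0.1 x y
theorem hom1 (x y : V) : d.μ1 (mul x y) = mul (d.μ1 x) (d.μ1 y) := d.p1.1 x y
theorem iso0 (x y : V) : B (d.μ0 x) (d.μ0 y) = B x y := d.p0.2.1 x y
theorem iso1 (x y : V) : B (d.μ1 x) (d.μ1 y) = B x y := d.p1.2.1 x y
theorem inv0 (x : V) : d.μ0 (d.μ0 x) = x := invol d.p0 x
theorem inv1 (x : V) : d.μ1 (d.μ1 x) = x := invol d.p1 x
theorem fix0 : d.μ0 d.a0 = d.a0 := fix_axis d.p0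
theorem fix1 : d.μ1 d.a1 = d.a1 := fix_axis d.p1
theorem μ0_a1 : d.μ0 d.a1 = d.am1 := rfl
theorem μ0_am1 : d.μ0 d.am1 = d.a1 := d.inv0 _
theorem μ0_a2 : d.μ0 d.a2 = d.am2 := rfl
theorem μ0_am2 : d.μ0 d.am2 = d.a2 := d.inv0 _
theorem μ1_a0 : d.μ1 d.a0 = d.a2 := rfl
theorem μ1_a2 : d.μ1 d.a2 = d.a0 := d.inv1 _
theorem μ1_am1 : d.μ1 d.am1 = d.a3 := rfl
theorem μ1_a3 : d.μ1 d.a3 = d.am1 := d.inv1 _

theorem mul_axis_diff : mul d.a0 (d.a1 - d.am1) = (1 / 32 : ℝ) • (d.a1 - d.am1) := by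
  obtain ⟨u, v, -, -, -, -, -, h⟩ := components d.hV d.p0 d.n0 d.a1
  exact h

theorem μ0_s : d.μ0 d.s = d.s := by
  have h := d.mul_axis_diff
  rw [map_sub] at h
  simp only [s, sig, map_sub, map_add, map_smul, d.hom0, d.fix0, d.μ0_a1]
  linear_combination (norm := module) (-1 : ℝ) • h

theorem μ1_s : d.μ1 d.s = d.s := by
  rw [← swap_s]; exact d.swap.μ0_s

theorem μ0_t0 : d.μ0 d.t0 = d.t0 := by
  obtain ⟨u, v, -, -, -, -, -, h⟩ := components d.hV d.p0 d.n0 d.a2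
  rw [map_sub, d.μ0_a2] at h
  simp only [t0, sig, map_sub, map_add, map_smul, d.hom0, d.fix0, d.μ0_a2]
  linear_combination (norm := module) (-1 : ℝ) • h

theorem μ1_t0 : d.μ1 d.t0 = d.t0 := by
  simp only [t0, sig, map_sub, map_add, map_smul, d.hom1, d.μ1_a0, d.μ1_a2]
  rw [d.comm d.a2, add_comm d.a2]

theorem μ0_t1 : d.μ0 d.t1 = d.t1 := d.swap.μ1_t0
theorem μ1_t1 : d.μ1 d.t1 = d.t1 := d.swap.μ0_t0

theorem e00 : mul d.a0 d.a0 = d.a0 := idem d.p0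
theorem e11 : mul d.a1 d.a1 = d.a1 := idem d.p1
theorem emm : mul d.am1 d.am1 = d.am1 := by rw [am1, ← d.hom0, d.e11]
theorem e22 : mul d.a2 d.a2 = d.a2 := d.swap.emm
theorem e01 : mul d.a0 d.a1 = d.s + (1 / 32 : ℝ) • (d.a0 + d.a1) := mul_eq_sig _ _ _
theorem e0m : mul d.a0 d.am1 = d.s + (1 / 32 : ℝ) • (d.a0 + d.am1) := by
  have h := congrArg d.μ0 d.e01
  simpa only [map_add, map_smul, d.hom0, d.fix0, d.μ0_a1, d.μ0_s] using h
theorem e02 : mul d.a0 d.a2 = d.t0 + (1 / 32 : ℝ) • (d.a0 + d.a2) := mul_eq_sig _ _ _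
theorem e0n : mul d.a0 d.am2 = d.t0 + (1 / 32 : ℝ) • (d.a0 + d.am2) := by
  have h := congrArg d.μ0 d.e02
  simpa only [map_add, map_smul, d.hom0, d.fix0, d.μ0_a2, d.μ0_t0] using h
theorem e1m : mul d.a1 d.am1 = d.t1 + (1 / 32 : ℝ) • (d.a1 + d.am1) := mul_eq_sig _ _ _
theorem em1 : mul d.am1 d.a1 = d.t1 + (1 / 32 : ℝ) • (d.a1 + d.am1) := (d.comm _ _).trans d.e1m
theorem e10 : mul d.a1 d.a0 = d.s + (1 / 32 : ℝ) • (d.a0 + d.a1) := (d.comm _ _).trans d.e01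
theorem em0 : mul d.am1 d.a0 = d.s + (1 / 32 : ℝ) • (d.a0 + d.am1) := (d.comm _ _).trans d.e0m

theorem e0s : mul d.a0 d.s = (3 / 4 * d.l - 25 / 1024) • d.a0 +
    (7 / 2048 : ℝ) • (d.a1 + d.am1) + (7 / 32 : ℝ) • d.s := by
  obtain ⟨u, v, hu, hv, hvd, -, -, hw⟩ := components d.hV d.p0 d.n0 d.a1
  change v = (4 : ℝ) • (mul d.a0 d.a1 - d.l • d.a0 - (1 / 64 : ℝ) • (d.a1 - d.am1)) at hvd
  rw [d.μ0_a1] at hw
  rw [d.e01] at hvd
  rw [hvd] at hv
  simp only [map_sub, map_add, map_smul, d.e00, d.e01, d.e0m] at hv hw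
  linear_combination (norm := module) (1 / 4 : ℝ) • hv

theorem e1s : mul d.a1 d.s = (3 / 4 * d.l - 25 / 1024) • d.a1 +
    (7 / 2048 : ℝ) • (d.a0 + d.a2) + (7 / 32 : ℝ) • d.s := by
  have h := d.swap.e0s
  rwa [swap_a0, swap_a1, swap_am1, swap_s, swap_l] at h

theorem ems : mul d.am1 d.s = (3 / 4 * d.l - 25 / 1024) • d.am1 +
    (7 / 2048 : ℝ) • (d.a0 + d.am2) + (7 / 32 : ℝ) • d.s := by
  have h := congrArg d.μ0 d.e1s
  simpa only [map_add, map_smul, d.hom0, d.fix0, d.μ0_a1, d.μ0_a2, d.μ0_s] using h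

theorem es0 : mul d.s d.a0 = (3 / 4 * d.l - 25 / 1024) • d.a0 +
    (7 / 2048 : ℝ) • (d.a1 + d.am1) + (7 / 32 : ℝ) • d.s := (d.comm _ _).trans d.e0s
theorem es1 : mul d.s d.a1 = (3 / 4 * d.l - 25 / 1024) • d.a1 +
    (7 / 2048 : ℝ) • (d.a0 + d.a2) + (7 / 32 : ℝ) • d.s := (d.comm _ _).trans d.e1s
theorem esm : mul d.s d.am1 = (3 / 4 * d.l - 25 / 1024) • d.am1 +
    (7 / 2048 : ℝ) • (d.a0 + d.am2) + (7 / 32 : ℝ) • d.s := (d.comm _ _).trans d.ems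

theorem e0t : mul d.a0 d.t0 = (3 / 4 * d.m - 25 / 1024) • d.a0 +
    (7 / 2048 : ℝ) • (d.a2 + d.am2) + (7 / 32 : ℝ) • d.t0 := by
  obtain ⟨u, v, hu, hv, hvd, -, -, hw⟩ := components d.hV d.p0 d.n0 d.a2
  change v = (4 : ℝ) • (mul d.a0 d.a2 - d.m • d.a0 - (1 / 64 : ℝ) • (d.a2 - d.am2)) at hvd
  rw [d.μ0_a2] at hw
  rw [d.e02] at hvd
  rw [hvd] at hv
  simp only [map_sub, map_add, map_smul, d.e00, d.e02, d.e0n] at hv hw
  linear_combination (norm := module) (1 / 4 : ℝ) • hv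

theorem B00 : B d.a0 d.a0 = 1 := d.n0
theorem Bs1 : B d.s d.a1 = 31 / 32 * d.l - 1 / 32 := by
  rw [s, sig, map_sub, LinearMap.sub_apply, map_smul, LinearMap.smul_apply, map_add,
    LinearMap.add_apply, ← d.assoc, d.e11, d.n1, smul_eq_mul, l]
  ring

theorem B_m1_1 : B d.am1 d.a1 = d.swap.m := d.symm _ _

/-- The component of `a1` in the quarter eigenspace of `a0`, and that in the null one. -/
theorem parts : ∃ u v : V, mul d.a0 u = 0 ∧ mul d.a0 v = (1 / 4 : ℝ) • v ∧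
    v = (4 : ℝ) • d.s + (1 / 16 : ℝ) • (d.a1 + d.am1) + (1 / 8 - 4 * d.l) • d.a0 ∧
    u = (7 / 16 : ℝ) • (d.a1 + d.am1) - (4 : ℝ) • d.s + (3 * d.l - 1 / 8) • d.a0 ∧
    mul d.a0 (mul v v) = (1 / 4 * (4 * (31 / 32 * d.l - 1 / 32) + 1 / 16 * (1 + d.swap.m) +
      (1 / 8 - 4 * d.l) * d.l)) • d.a0 := by
  obtain ⟨u, v, hu, hv, hvd, huv, hvv, -⟩ := components d.hV d.p0 d.n0 d.a1
  change v = (4 : ℝ) • (mul d.a0 d.a1 - d.l • d.a0 - (1 / 64 : ℝ) • (d.a1 - d.am1)) at hvd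
  change u + v = (1 / 2 : ℝ) • (d.a1 + d.am1) - d.l • d.a0 at huv
  rw [d.e01] at hvd
  have hv' : v = (4 : ℝ) • d.s + (1 / 16 : ℝ) • (d.a1 + d.am1) + (1 / 8 - 4 * d.l) • d.a0 := by
    rw [hvd]; module
  refine ⟨u, v, hu, hv, hv', ?_, ?_⟩
  · rw [eq_sub_of_add_eq huv, hv']; module
  · rw [fusion_quarter d.hV d.p0 d.n0 hv, hvv, hv']
    congr 1
    simp only [map_add, map_smul, LinearMap.add_apply, LinearMap.smul_apply, smul_eq_mul, d.Bs1,
      d.B_m1_1, d.n1]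
    rw [l]

theorem e0t1 : mul d.a0 d.t1 =
    (1 / 6 * d.l - 19 / 3072) • (d.a1 + d.am1) + (7 / 6144 : ℝ) • (d.a2 + d.am2) +
      (7 / 96 : ℝ) • d.t0 + (32 / 3 * d.l - 19 / 48) • d.s +
      (-32 / 3 * d.l ^ 2 + 5 / 3 * d.l - 1 / 24 * d.swap.m - 127 / 3072) • d.a0 := by
  obtain ⟨u, v, hu, hv, hvd, hud, hvv⟩ := d.parts
  have huu := fusion_zero d.p0 hu hu
  have hz : mul d.a0 (mul (u + v) (u - v)) = -mul d.a0 (mul v v) := by
    simp only [map_add, map_sub, LinearMap.add_apply, d.comm v u, huu]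
    abel_nf
  rw [show u + v = (1 / 2 : ℝ) • (d.a1 + d.am1) + (-d.l) • d.a0 by rw [hud, hvd]; module,
    show u - v = (3 / 8 : ℝ) • (d.a1 + d.am1) + (-8 : ℝ) • d.s + (7 * d.l - 1 / 4) • d.a0 by
      rw [hud, hvd]; module, hvv] at hz
  simp only [map_add, map_smul, LinearMap.add_apply, LinearMap.smul_apply, d.e00, d.e11, d.emm,
    d.e01, d.e0m, d.e10, d.em0, d.e1m, d.em1, d.e0s, d.e1s, d.ems, d.e02, d.e0n] at hz
  linear_combination (norm := module) (8 / 3 : ℝ) • hz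

/-- The value of `a0 (s s)`. -/
noncomputable def Y : V :=
  (7 / 96 * d.l - 35 / 6144) • d.s +
    (157 / 192 * d.l ^ 2 - 29 / 6144 * d.l + 49 / 49152 * d.swap.m + 271 / 6291456) • d.a0 +
    (7 / 6144 * d.l - 35 / 393216) • (d.a1 + d.am1) + (-49 / 196608 : ℝ) • d.t0 +
    (-49 / 12582912 : ℝ) • (d.a2 + d.am2)

theorem e0ss : mul d.a0 (mul d.s d.s) = d.Y := by
  obtain ⟨u, v, hu, hv, hvd, hud, hvv⟩ := d.parts
  have huu := fusion_zero d.p0 hu hu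
  rw [show u = (7 / 16 : ℝ) • (d.a1 + d.am1) + (-4 : ℝ) • d.s + (3 * d.l - 1 / 8) • d.a0 by
    rw [hud]; module] at huu
  simp only [map_add, map_smul, LinearMap.add_apply, LinearMap.smul_apply, d.e00, d.e11, d.emm,
    d.e01, d.e0m, d.e10, d.em0, d.e1m, d.em1, d.e0s, d.e1s, d.ems, d.es0, d.es1, d.esm, d.e02,
    d.e0n, d.e0t1] at huu
  rw [Y]
  linear_combination (norm := module) (1 / 16 : ℝ) • huu

theorem ess : mul d.s d.s =
    (-5 / 12 * d.l - 13 / 1536) • d.s +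
    (7 / 6 * d.l ^ 2 - 7 / 384 * d.l + 7 / 1536 * d.swap.m - 7 / 98304) • d.a0 +
    (49 / 768 * d.l - 245 / 196608) • (d.a1 + d.am1) + (-7 / 1536 : ℝ) • d.t0 +
    (49 / 196608 : ℝ) • (d.a2 + d.am2) + (7 / 2048 : ℝ) • d.t1 := by
  obtain ⟨u, v, hu, hv, hvd, hud, hvv⟩ := d.parts
  have huv := fusion_zero_quarter d.p0 hu hv
  rw [hvd, show u = (7 / 16 : ℝ) • (d.a1 + d.am1) + (-4 : ℝ) • d.s + (3 * d.l - 1 / 8) • d.a0 by
    rw [hud]; module] at huv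
  simp only [map_add, map_smul, LinearMap.add_apply, LinearMap.smul_apply, d.e00, d.e11, d.emm,
    d.e01, d.e0m, d.e10, d.em0, d.e1m, d.em1, d.e0s, d.e1s, d.ems, d.es0, d.es1, d.esm, d.e02,
    d.e0n, d.e0t1, d.e0ss, Y] at huv
  linear_combination (norm := module) (1 / 4 : ℝ) • huv

theorem m_eq : d.swap.m = d.m := by
  have h := congrArg (mul d.a0) d.ess
  rw [d.e0ss] at h
  simp only [map_add, map_smul, d.e00, d.e01, d.e0m, d.e0s, d.e0t, d.e02, d.e0n, d.e0t1, Y] at h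
  have h2 : (7 / 2048 * (d.swap.m - d.m)) • d.a0 = 0 := by
    linear_combination (norm := module) (-1 : ℝ) • h
  rcases smul_eq_zero.1 h2 with h3 | h3
  · linarith
  · exact absurd h3 d.p0.2.2.1.1.1

end Dih

end CfsgLib.Sakuma
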