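import Cfsg.Agent.Lib.Sakuma.Products

/-!
The linear recurrence of the axes, the inner products, and the two polynomial relations between
the two basic inner products.
-/

set_option autoImplicit false

namespace CfsgLib.Sakuma

open Cfsg.Axial

/-- The middle coefficient of the recurrence. -/
noncomputable def kco (l m : ℝ) : ℝ := (32768 * l ^ 2 - 2304 * l + 128 * m + 33) / 7
/-- The third inner product. -/
noncomputable def lam3 (l m : ℝ) : ℝ := m - (256 * l + 24) * (m - l) + kco l m * (1 - l)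
/-- The fourth inner product. -/
noncomputable def lam4 (l m : ℝ) : ℝ :=
  l + (256 * l - 6) * (1 - lam3 l m) + kco l m * (l - m) + 30 * (m - l)
/-- The fifth inner product. -/
noncomputable def lam5 (l m : ℝ) : ℝ :=
  1 + (256 * l - 6) * (l - lam4 l m) + kco l m * (m - lam3 l m) + 30 * (l - m)
/-- The sixth inner product. -/
noncomputable def lam6 (l m : ℝ) : ℝ :=
  l + (256 * l - 6) * (m - lam5 l m) + kco l m * (lam3 l m - lam4 l m) + 30 * (m - l)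

variable {V : Type*} [AddCommGroup V] [Module ℝ V]
  {mul : V →ₗ[ℝ] V →ₗ[ℝ] V} {B : LinearMap.BilinForm ℝ V} (d : Dih mul B)

namespace Dih

theorem swap_swap_m : d.swap.swap.m = d.m := rfl

theorem recurrence : d.a3 = d.am2 - ((256 * d.l - 6) • (d.a2 - d.am1) +
    kco d.l d.m • (d.a1 - d.a0) + (32 : ℝ) • (d.t0 - d.t1)) := by
  have h := d.swap.ess
  rw [swap_a0, swap_a1, swap_a2, swap_am1, swap_am2, swap_s, swap_l, swap_t0, swap_t1,
    swap_swap_m, d.ess, d.m_eq] at h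
  rw [kco]
  linear_combination (norm := module) (-196608 / 49 : ℝ) • h

theorem fix_t {x : V} (hx : x ∈ ({d.s, d.t0, d.t1} : Set V)) : d.μ0 x = x ∧ d.μ1 x = x := by
  rcases hx with rfl | rfl | rfl
  exacts [⟨d.μ0_s, d.μ1_s⟩, ⟨d.μ0_t0, d.μ1_t0⟩, ⟨d.μ0_t1, d.μ1_t1⟩]

theorem B01 : B d.a0 d.a1 = d.l := rfl
theorem B02 : B d.a0 d.a2 = d.m := rfl
theorem B0m : B d.a0 d.am1 = d.l := by
  have := d.iso0 d.a0 d.a1
  rwa [d.fix0, d.μ0_a1] at this
theorem B0n : B d.a0 d.am2 = d.m := by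
  have := d.iso0 d.a0 d.a2
  rwa [d.fix0, d.μ0_a2] at this
theorem B21 : B d.a2 d.a1 = d.l := by
  have := d.iso1 d.a0 d.a1
  rwa [d.fix1, d.μ1_a0] at this
theorem B22 : B d.a2 d.a2 = 1 := by rw [a2, d.iso1, d.n0]
theorem Bmm : B d.am1 d.am1 = 1 := d.swap.B22
theorem B1m : B d.a1 d.am1 = d.m := d.m_eq

theorem Bs0 : B d.s d.a0 = 31 / 32 * d.l - 1 / 32 := by
  have := d.swap.Bs1
  rwa [swap_s, swap_a1, swap_l] at this

theorem B0t0 : B d.a0 d.t0 = 31 / 32 * d.m - 1 / 32 := by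
  rw [t0, sig, map_sub, map_smul, map_add, d.assoc, d.e00, d.B02, d.n0, smul_eq_mul]
  ring

theorem B0t1 : B d.a0 d.t1 = 15 / 16 * d.l + 1 / 32 * (d.m - d.l) - 1 / 32 + 1 / 32 * d.l := by
  rw [t1, sig, d.comm d.a1, map_sub, map_smul, map_add, d.assoc, d.e0m, map_add,
    LinearMap.add_apply, map_smul, LinearMap.smul_apply, map_add, LinearMap.add_apply, d.Bs1,
    d.B01, d.B0m, d.B_m1_1, d.m_eq, smul_eq_mul, smul_eq_mul]
  ring

theorem B1t1 : B d.a1 d.t1 = 31 / 32 * d.m - 1 / 32 := by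
  have := d.swap.B0t0
  rwa [swap_a0, swap_t0, d.m_eq] at this
theorem B1t0 : B d.a1 d.t0 = 15 / 16 * d.l + 1 / 32 * (d.m - d.l) - 1 / 32 + 1 / 32 * d.l := by
  have := d.swap.B0t1
  rwa [swap_a0, swap_t1, swap_l, d.m_eq] at this

theorem μ1_am2 : d.μ1 d.am2 = d.a4 := rfl

theorem Bat {x t : V} (hx : x ∈ ({d.s, d.t0, d.t1} : Set V)) (g : t = d.μ1 d.a0 ∨ t = d.μ0 d.a2 ∨
    t = d.μ1 d.am2) : B t x = B d.a0 x := by
  obtain ⟨h0, h1⟩ := d.fix_t hx
  have e2 : B d.a2 x = B d.a0 x := by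
    conv_lhs => rw [← h1]
    exact d.iso1 _ _
  have en : B d.am2 x = B d.a0 x := by
    conv_lhs => rw [← h0, am2, d.iso0]
    exact e2
  rcases g with rfl | rfl | rfl
  · exact e2
  · exact en
  · conv_lhs => rw [← h1, d.iso1]
    exact en

theorem B2x {x : V} (hx : x ∈ ({d.s, d.t0, d.t1} : Set V)) : B d.a2 x = B d.a0 x :=
  d.Bat hx (Or.inl rfl)
theorem Bnx {x : V} (hx : x ∈ ({d.s, d.t0, d.t1} : Set V)) : B d.am2 x = B d.a0 x :=
  d.Bat hx (Or.inr (Or.inl rfl))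
theorem B4x {x : V} (hx : x ∈ ({d.s, d.t0, d.t1} : Set V)) : B d.a4 x = B d.a0 x :=
  d.Bat hx (Or.inr (Or.inr rfl))
theorem Bmx {x : V} (hx : x ∈ ({d.s, d.t0, d.t1} : Set V)) : B d.am1 x = B d.a1 x := by
  have := d.iso0 d.a1 x
  rwa [(d.fix_t hx).1] at this
theorem B3x {x : V} (hx : x ∈ ({d.s, d.t0, d.t1} : Set V)) : B d.a3 x = B d.a1 x := by
  have := d.iso1 d.am1 x
  rw [(d.fix_t hx).2, d.Bmx hx] at this
  exact this

theorem B03 : B d.a0 d.a3 = lam3 d.l d.m := by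
  rw [d.recurrence]
  simp only [map_sub, map_add, map_smul, smul_eq_mul, d.B0n, d.B02, d.B0m, d.B01, d.n0, d.B0t0,
    d.B0t1]
  rw [lam3]
  ring

theorem B2m : B d.a2 d.am1 = lam3 d.l d.m := by
  have := d.iso1 d.a0 d.a3
  rw [d.μ1_a0, d.μ1_a3] at this
  rw [this, d.B03]

theorem B04 : B d.a2 d.am2 = lam4 d.l d.m := by
  have h := congrArg (B d.a2) d.recurrence
  have e23 : B d.a2 d.a3 = d.l := by rw [a3, a2, d.iso1, d.B0m]
  have h0 : B d.a2 d.a0 = d.m := by rw [d.symm, d.B02]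
  simp only [map_sub, map_add, map_smul, smul_eq_mul, e23, d.B22, d.B2m, d.B21, h0,
    d.B2x (x := d.t0) (by simp), d.B2x (x := d.t1) (by simp), d.B0t0, d.B0t1] at h
  rw [lam4]
  linarith

theorem B04' : B d.a0 d.a4 = lam4 d.l d.m := by
  have := d.iso1 d.a0 d.a4
  rw [d.μ1_a0, show d.μ1 d.a4 = d.am2 from d.inv1 _] at this
  rw [← this, d.B04]

theorem B3m : B d.a3 d.am1 = lam4 d.l d.m := by
  have := d.swap.B04
  rw [swap_a2, swap_am2, swap_l, d.m_eq] at this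
  rw [d.symm, this]

theorem B3n : B d.a3 d.am2 = lam5 d.l d.m := by
  have h := congrArg (B d.a3) d.recurrence
  have e33 : B d.a3 d.a3 = 1 := by rw [a3, d.iso1, d.Bmm]
  have e32 : B d.a3 d.a2 = d.l := by rw [a3, a2, d.iso1, d.symm, d.B0m]
  have e31 : B d.a3 d.a1 = d.m := by
    have := d.iso1 d.am1 d.a1
    rw [d.fix1, d.μ1_am1] at this
    rw [this, d.symm, d.B1m]
  simp only [map_sub, map_add, map_smul, smul_eq_mul, e33, e32, e31, d.B3m,
    d.symm d.a3 d.a0, d.B03, d.B3x (x := d.t0) (by simp), d.B3x (x := d.t1) (by simp), d.B1t0,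
    d.B1t1] at h
  rw [lam5]
  linarith

theorem B4n : B d.a4 d.am2 = lam6 d.l d.m := by
  have h := congrArg (B d.a4) d.recurrence
  have e43 : B d.a4 d.a3 = d.l := by
    rw [a4, a3, d.iso1, am2, am1, d.iso0, d.B21]
  have e42 : B d.a4 d.a2 = d.m := by rw [a4, a2, d.iso1, d.symm, d.B0n]
  have e4m : B d.a4 d.am1 = lam5 d.l d.m := by
    have := d.iso1 d.am2 d.a3
    rw [d.μ1_am2, d.μ1_a3] at this
    rw [this, d.symm, d.B3n]
  have e41 : B d.a4 d.a1 = lam3 d.l d.m := by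
    have := d.iso1 d.am2 d.a1
    rw [d.μ1_am2, d.fix1, am2, ← d.μ0_am1, d.iso0, d.B2m] at this
    rw [← d.μ0_am1, this]
  simp only [map_sub, map_add, map_smul, smul_eq_mul, e43, e42, e4m, e41, d.symm d.a4 d.a0, d.B04',
    d.B4x (x := d.t0) (by simp), d.B4x (x := d.t1) (by simp), d.B0t0, d.B0t1] at h
  rw [lam6]
  linarith

theorem e2t0 : mul d.a2 d.t0 = (3 / 4 * d.m - 25 / 1024) • d.a2 +
    (7 / 2048 : ℝ) • (d.a0 + d.a4) + (7 / 32 : ℝ) • d.t0 := by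
  have h := congrArg d.μ1 d.e0t
  simpa only [map_add, map_smul, d.hom1, d.μ1_a0, d.μ1_a2, d.μ1_am2, d.μ1_t0] using h

theorem e2t1 : mul d.a2 d.t1 =
    (1 / 6 * d.l - 19 / 3072) • (d.a1 + d.a3) + (7 / 6144 : ℝ) • (d.a0 + d.a4) +
      (7 / 96 : ℝ) • d.t0 + (32 / 3 * d.l - 19 / 48) • d.s +
      (-32 / 3 * d.l ^ 2 + 5 / 3 * d.l - 1 / 24 * d.m - 127 / 3072) • d.a2 := by
  have h := congrArg d.μ1 d.e0t1
  rw [d.m_eq] at h
  simpa only [map_add, map_smul, d.hom1, d.μ1_a0, d.μ1_a2, d.μ1_am2, d.μ1_am1, d.fix1, d.μ1_t0,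
    d.μ1_t1, d.μ1_s] using h

theorem Bt0 (y : V) : B d.t0 y = B d.a0 (mul d.a2 y) - 1 / 32 * (B d.a0 y + B d.a2 y) := by
  rw [t0, sig, map_sub, LinearMap.sub_apply, map_smul, LinearMap.smul_apply, map_add,
    LinearMap.add_apply, ← d.assoc, smul_eq_mul]

theorem relation_one :
    28 * d.l ^ 4 - 497 / 16 * d.l ^ 3 + 35 / 64 * d.l ^ 2 * d.m + 315 / 128 * d.l ^ 2 +
      973 / 8192 * d.l * d.m - 525 / 8192 * d.l + 7 / 4096 * d.m ^ 2 - 1169 / 524288 * d.m +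
      273 / 524288 = 0 := by
  have htt : B d.t0 d.t0 = (3 / 4 * d.m - 25 / 1024) * d.m + 7 / 2048 * (1 + lam4 d.l d.m) +
      7 / 32 * B d.a0 d.t0 - 1 / 32 * (B d.a0 d.t0 + B d.a0 d.t0) := by
    rw [d.Bt0, d.e2t0, d.B2x (x := d.t0) (by simp)]
    simp only [map_add, map_smul, smul_eq_mul, d.B02, d.n0, d.B04']
  have htu : B d.t0 d.t1 = (1 / 6 * d.l - 19 / 3072) * (d.l + lam3 d.l d.m) +
      7 / 6144 * (1 + lam4 d.l d.m) + 7 / 96 * B d.a0 d.t0 +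
      (32 / 3 * d.l - 19 / 48) * B d.a0 d.s +
      (-32 / 3 * d.l ^ 2 + 5 / 3 * d.l - 1 / 24 * d.m - 127 / 3072) * d.m -
      1 / 32 * (B d.a0 d.t1 + B d.a0 d.t1) := by
    rw [d.Bt0, d.e2t1, d.B2x (x := d.t1) (by simp)]
    simp only [map_add, map_smul, smul_eq_mul, d.B02, d.n0, d.B04', d.B01, d.B03]
  have h := congrArg (B d.t0) d.recurrence
  simp only [map_sub, map_add, map_smul, smul_eq_mul, htt, htu, d.symm d.t0 d.a3,
    d.symm d.t0 d.am2, d.symm d.t0 d.a2, d.symm d.t0 d.am1, d.symm d.t0 d.a1, d.symm d.t0 d.a0,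
    d.B3x (x := d.t0) (by simp), d.Bnx (x := d.t0) (by simp), d.B2x (x := d.t0) (by simp),
    d.Bmx (x := d.t0) (by simp), d.B1t0, d.B0t0, d.B0t1, d.symm d.a0 d.s, d.Bs0, lam4, lam3,
    kco] at h
  linear_combination (49 / 196608 : ℝ) * h

theorem relation_two :
    402653184 / 49 * d.l ^ 5 - 453771264 / 49 * d.l ^ 4 + 19660800 / 49 * d.l ^ 3 * d.m +
      33103872 / 49 * d.l ^ 3 - 1195008 / 49 * d.l ^ 2 * d.m - 92160 / 7 * d.l ^ 2 +
      70656 / 49 * d.l * d.m ^ 2 + 124392 / 49 * d.l * d.m - 216 / 7 * d.l +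
      2088 / 49 * d.m ^ 2 - 8703 / 196 * d.m + 351 / 196 = 0 := by
  have e33 : mul d.a3 d.a3 = d.a3 := by rw [a3, ← d.hom1, d.emm]
  have hl : B d.a3 (mul d.a0 d.a3) = lam3 d.l d.m := by
    rw [d.comm d.a0, d.assoc, e33, d.symm, d.B03]
  have hp := congrArg (mul d.a0) d.recurrence
  simp only [map_sub, map_add, map_smul, d.e00, d.e01, d.e0m, d.e02, d.e0n, d.e0t, d.e0t1,
    d.m_eq] at hp
  rw [hp] at hl
  have e32 : B d.a3 d.a2 = d.l := by rw [a3, a2, d.iso1, d.symm, d.B0m]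
  have e31 : B d.a3 d.a1 = d.m := by
    have := d.iso1 d.am1 d.a1
    rw [d.fix1, d.μ1_am1] at this
    rw [this, d.symm, d.B1m]
  simp only [map_sub, map_add, map_smul, smul_eq_mul, e32, e31, d.symm d.a3 d.a0, d.B03, d.B3m,
    d.B3n, d.B3x (x := d.s) (by simp), d.symm d.a1 d.s, d.Bs1, d.B3x (x := d.t0) (by simp),
    d.B3x (x := d.t1) (by simp), d.B1t0, d.B1t1, lam5, lam4, lam3, kco] at hl
  linear_combination hl

end Dih

end CfsgLib.Sakuma
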