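import Cfsg.Agent.Lib.Sakuma.Relations

/-!
The common zeros of the two polynomial relations.
-/

set_option autoImplicit false
set_option maxHeartbeats 1000000

namespace CfsgLib.Sakuma

theorem elim_3_0 (l m : ℝ)
    (h1 : (28) * l ^ 4 +
      (-497 / 16) * l ^ 3 +
      (35 / 64) * l ^ 2 * m +
      (315 / 128) * l ^ 2 +
      (973 / 8192) * l * m +
      (-525 / 8192) * l +
      (7 / 4096) * m ^ 2 +
      (-1169 / 524288) * m +
      (273 / 524288) = 0)
    (h2 : (402653184 / 49) * l ^ 5 +
      (-453771264 / 49) * l ^ 4 +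
      (19660800 / 49) * l ^ 3 * m +
      (33103872 / 49) * l ^ 3 +
      (-1195008 / 49) * l ^ 2 * m +
      (-92160 / 7) * l ^ 2 +
      (70656 / 49) * l * m ^ 2 +
      (124392 / 49) * l * m +
      (-216 / 7) * l +
      (2088 / 49) * m ^ 2 +
      (-8703 / 196) * m +
      (351 / 196) = 0) :
    (1) * l ^ 3 +
      (64 / 513) * l ^ 2 * m ^ 2 +
      (-409 / 342) * l ^ 2 * m +
      (-221 / 4104) * l ^ 2 +
      (61 / 1026) * l * m ^ 2 +
      (8525 / 131328) * l * m +
      (83 / 131328) * l +
      (1 / 2052) * m ^ 3 +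
      (115 / 262656) * m ^ 2 +
      (-5197 / 5603328) * m +
      (13 / 5603328) = 0 := by
  linear_combination ((524288 / 53865) * l ^ 2 +
      (-467968 / 53865) * l +
      (1024 / 3591) * m +
      (-1712 / 17955)) * h1 +
      ((-49 / 1477440) * l +
      (343 / 11819520)) * h2

theorem elim_2_1 (l m : ℝ)
    (h1 : (28) * l ^ 4 +
      (-497 / 16) * l ^ 3 +
      (35 / 64) * l ^ 2 * m +
      (315 / 128) * l ^ 2 +
      (973 / 8192) * l * m +
      (-525 / 8192) * l +
      (7 / 4096) * m ^ 2 +
      (-1169 / 524288) * m +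
      (273 / 524288) = 0)
    (h2 : (402653184 / 49) * l ^ 5 +
      (-453771264 / 49) * l ^ 4 +
      (19660800 / 49) * l ^ 3 * m +
      (33103872 / 49) * l ^ 3 +
      (-1195008 / 49) * l ^ 2 * m +
      (-92160 / 7) * l ^ 2 +
      (70656 / 49) * l * m ^ 2 +
      (124392 / 49) * l * m +
      (-216 / 7) * l +
      (2088 / 49) * m ^ 2 +
      (-8703 / 196) * m +
      (351 / 196) = 0) :
    (1) * l ^ 2 * m +
      (-1) * l ^ 2 +
      (-1193984 / 71383) * l * m ^ 3 +
      (1213830 / 71383) * l * m ^ 2 +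
      (-1458813 / 4568512) * l * m +
      (14513 / 351424) * l +
      (-11264 / 71383) * m ^ 4 +
      (28319 / 71383) * m ^ 3 +
      (-83393 / 351424) * m ^ 2 +
      (-191249 / 146192384) * m +
      (-3531 / 11245568) = 0 := by
  linear_combination ((1511828488192 / 367265535) * l ^ 3 * m +
      (-1095082442752 / 28251195) * l ^ 3 +
      (-2424240603136 / 367265535) * l ^ 2 * m +
      (15181975126016 / 367265535) * l ^ 2 +
      (67914170368 / 367265535) * l * m ^ 2 +
      (2018246656 / 7495215) * l * m +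
      (-240604616704 / 367265535) * l +
      (-10634657792 / 122421845) * m ^ 2 +
      (5668673536 / 24484369) * m +
      (-1388486976 / 122421845)) * h1 +
      ((-45056 / 3212235) * l ^ 2 * m +
      (32636 / 247095) * l ^ 2 +
      (71456 / 3212235) * l * m +
      (-14240009 / 102791520) * l +
      (-704 / 3212235) * m ^ 2 +
      (-48817 / 10279152) * m +
      (20541649 / 6578657280)) * h2

theorem elim_1_2 (l m : ℝ)
    (h1 : (28) * l ^ 4 +
      (-497 / 16) * l ^ 3 +
      (35 / 64) * l ^ 2 * m +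
      (315 / 128) * l ^ 2 +
      (973 / 8192) * l * m +
      (-525 / 8192) * l +
      (7 / 4096) * m ^ 2 +
      (-1169 / 524288) * m +
      (273 / 524288) = 0)
    (h2 : (402653184 / 49) * l ^ 5 +
      (-453771264 / 49) * l ^ 4 +
      (19660800 / 49) * l ^ 3 * m +
      (33103872 / 49) * l ^ 3 +
      (-1195008 / 49) * l ^ 2 * m +
      (-92160 / 7) * l ^ 2 +
      (70656 / 49) * l * m ^ 2 +
      (124392 / 49) * l * m +
      (-216 / 7) * l +
      (2088 / 49) * m ^ 2 +
      (-8703 / 196) * m +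
      (351 / 196) = 0) :
    (1) * l * m ^ 2 +
      (-269 / 256) * l * m +
      (13 / 256) * l +
      (29696 / 39) * m ^ 5 +
      (-35692 / 39) * m ^ 4 +
      (67475 / 416) * m ^ 3 +
      (-688483 / 79872) * m ^ 2 +
      (4067 / 24576) * m +
      (-13 / 8192) = 0 := by
  linear_combination ((422487342972928 / 200655) * l ^ 4 * m +
      (197568495616 / 5145) * l ^ 4 +
      (-3985729650688 / 200655) * l ^ 3 * m ^ 2 +
      (-470227515080704 / 200655) * l ^ 3 * m +
      (-646895894528 / 15435) * l ^ 3 +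
      (25370103382016 / 200655) * l ^ 2 * m ^ 2 +
      (28480743931904 / 200655) * l ^ 2 * m +
      (2857140224 / 1715) * l ^ 2 +
      (-179046449152 / 200655) * l * m ^ 3 +
      (-31692161024 / 4095) * l * m ^ 2 +
      (-73789014016 / 66885) * l * m +
      (252416 / 5145) * l +
      (28036825088 / 66885) * m ^ 3 +
      (39476690944 / 66885) * m ^ 2 +
      (-1374552832 / 66885) * m +
      (-1086608 / 5145)) * h1 +
      ((-12591104 / 1755) * l ^ 3 * m +
      (-5888 / 45) * l ^ 3 +
      (118784 / 1755) * l ^ 2 * m ^ 2 +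
      (13792544 / 1755) * l ^ 2 * m +
      (37937 / 270) * l ^ 2 +
      (-77024 / 351) * l * m ^ 2 +
      (-916624 / 1755) * l * m +
      (-6241 / 960) * l +
      (1856 / 1755) * m ^ 3 +
      (-38807 / 1755) * m ^ 2 +
      (1094087 / 149760) * m +
      (2479 / 40960)) * h2

theorem elim_0_6 (l m : ℝ)
    (h1 : (28) * l ^ 4 +
      (-497 / 16) * l ^ 3 +
      (35 / 64) * l ^ 2 * m +
      (315 / 128) * l ^ 2 +
      (973 / 8192) * l * m +
      (-525 / 8192) * l +
      (7 / 4096) * m ^ 2 +
      (-1169 / 524288) * m +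
      (273 / 524288) = 0)
    (h2 : (402653184 / 49) * l ^ 5 +
      (-453771264 / 49) * l ^ 4 +
      (19660800 / 49) * l ^ 3 * m +
      (33103872 / 49) * l ^ 3 +
      (-1195008 / 49) * l ^ 2 * m +
      (-92160 / 7) * l ^ 2 +
      (70656 / 49) * l * m ^ 2 +
      (124392 / 49) * l * m +
      (-216 / 7) * l +
      (2088 / 49) * m ^ 2 +
      (-8703 / 196) * m +
      (351 / 196) = 0) :
    (1) * m ^ 6 +
      (-311 / 256) * m ^ 5 +
      (7485 / 32768) * m ^ 4 +
      (-29135 / 2097152) * m ^ 3 +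
      (5279 / 16777216) * m ^ 2 +
      (-39 / 16777216) * m = 0 := by
  linear_combination ((14227079168 / 5145) * l ^ 4 * m ^ 2 +
      (25165824 / 1715) * l ^ 4 * m +
      (-1703936 / 1715) * l ^ 4 +
      (-134217728 / 5145) * l ^ 3 * m ^ 3 +
      (-15832973312 / 5145) * l ^ 3 * m ^ 2 +
      (-78413824 / 5145) * l ^ 3 * m +
      (1867008 / 1715) * l ^ 3 +
      (854327296 / 5145) * l ^ 2 * m ^ 3 +
      (189605888 / 1029) * l ^ 2 * m ^ 2 +
      (-417696 / 1715) * l ^ 2 * m +
      (-81744 / 1715) * l ^ 2 +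
      (-6029312 / 5145) * l * m ^ 4 +
      (-52215808 / 5145) * l * m ^ 3 +
      (-2259136 / 1715) * l * m ^ 2 +
      (68849 / 3430) * l * m +
      (351 / 3430) * l +
      (944128 / 1715) * m ^ 4 +
      (1317152 / 1715) * m ^ 3 +
      (-254423 / 6860) * m ^ 2 +
      (-95 / 21952) * m +
      (1521 / 219520)) * h1 +
      ((-424 / 45) * l ^ 3 * m ^ 2 +
      (-1 / 20) * l ^ 3 * m +
      (13 / 3840) * l ^ 3 +
      (4 / 45) * l ^ 2 * m ^ 3 +
      (14861 / 1440) * l ^ 2 * m ^ 2 +
      (941 / 18432) * l ^ 2 * m +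
      (-299 / 81920) * l ^ 2 +
      (-83 / 288) * l * m ^ 3 +
      (-7859 / 11520) * l * m ^ 2 +
      (121 / 327680) * l * m +
      (481 / 2621440) * l +
      (1 / 720) * m ^ 4 +
      (-1339 / 46080) * m ^ 3 +
      (39203 / 3932160) * m ^ 2 +
      (-347 / 8388608) * m +
      (-169 / 83886080)) * h2

/-- One of the first six inner products is one. -/
theorem periodic_values (l m : ℝ)
    (h1 : (28) * l ^ 4 +
      (-497 / 16) * l ^ 3 +
      (35 / 64) * l ^ 2 * m +
      (315 / 128) * l ^ 2 +
      (973 / 8192) * l * m +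
      (-525 / 8192) * l +
      (7 / 4096) * m ^ 2 +
      (-1169 / 524288) * m +
      (273 / 524288) = 0)
    (h2 : (402653184 / 49) * l ^ 5 +
      (-453771264 / 49) * l ^ 4 +
      (19660800 / 49) * l ^ 3 * m +
      (33103872 / 49) * l ^ 3 +
      (-1195008 / 49) * l ^ 2 * m +
      (-92160 / 7) * l ^ 2 +
      (70656 / 49) * l * m ^ 2 +
      (124392 / 49) * l * m +
      (-216 / 7) * l +
      (2088 / 49) * m ^ 2 +
      (-8703 / 196) * m +
      (351 / 196) = 0) :
    l = 1 ∨ m = 1 ∨ lam3 l m = 1 ∨ lam4 l m = 1 ∨ lam5 l m = 1 ∨ lam6 l m = 1 := by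
  have u := elim_0_6 l m h1 h2
  have g := elim_1_2 l m h1 h2
  have hu : m * (m - 1) * (m - 1 / 8) * (m - 13 / 256) * (m - 1 / 64) * (m - 3 / 128) = 0 := by
    linear_combination u
  simp only [mul_eq_zero, sub_eq_zero] at hu
  rcases hu with ((((rfl | rfl) | rfl) | rfl) | rfl) | rfl
  · have : l = 1 / 32 := by linarith
    subst this; right; right; right; left; norm_num [lam3, lam4, kco]
  · right; left; rfl
  · have : l = 1 / 64 := by linarith
    subst this; right; right; right; left; norm_num [lam3, lam4, kco]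
  · have q := elim_2_1 l _ h1 h2
    have : (l - 13 / 256) * (l - 5 / 256) = 0 := by linear_combination (-256 / 243 : ℝ) * q
    simp only [mul_eq_zero, sub_eq_zero] at this
    rcases this with rfl | rfl
    · right; right; left; norm_num [lam3, kco]
    · right; right; right; right; right; norm_num [lam3, lam4, lam5, lam6, kco]
  · have : l = 1 / 64 := by linarith
    subst this; right; right; left; norm_num [lam3, kco]
  · have : l = 3 / 128 := by linarith
    subst this; right; right; right; right; left; norm_num [lam3, lam4, lam5, kco]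

end CfsgLib.Sakuma
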